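import Mathlib
import Cfsg.Agent.Constrained.HallHigman
import Cfsg.Agent.Constrained.PSolvable
import Cfsg.Agent.OddSixteen.Assembly14
import Cfsg.Agent.OddOrder.PF12.Statement1540

/-!
2-solvable groups are solvable, by the odd order theorem.
-/

set_option autoImplicit false
set_option maxHeartbeats 400000

namespace CfsgLib.PLengthTwoExp

open Cfsg

universe u

theorem isSolvable_of_isPSolvable_two : ∀ (c : ℕ) (G : Type u) [Group G] [Finite G], Nat.card G = c →
    IsPSolvable 2 G → Group.IsSolvable G := by
  haveI := Fact.mk Nat.prime_two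
  intro c
  induction c using Nat.strong_induction_on with
  | _ c ih =>
  intro G _ _ hc hG
  rcases subsingleton_or_nontrivial G with h | h
  · exact inferInstance
  have key : ∀ N : Subgroup G, N.Normal → N ≠ ⊥ → Group.IsSolvable N → Group.IsSolvable G := by
    intro N hn hN hsN
    haveI := hn
    have hlt : Nat.card (G ⧸ N) < c := by
      have h1 := N.card_eq_card_quotient_mul_card_subgroup
      have h2 : 1 < Nat.card N := Finite.one_lt_card_iff_nontrivial.2 ((Subgroup.nontrivial_iff_ne_bot N).2 hN)
      have h3 := Nat.card_pos (α := G ⧸ N)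
      rw [← hc, h1]
      exact lt_mul_of_one_lt_right h3 h2
    haveI := hsN
    haveI := ih _ hlt (G ⧸ N) rfl (CfsgLib.Constrained.IsPSolvable.quotient hG N)
    exact solvable_of_ker_le_range N.subtype (QuotientGroup.mk' N)
      (by rw [QuotientGroup.ker_mk', Subgroup.range_subtype])
  rcases CfsgLib.Constrained.IsPSolvable.core_ne_bot hG with h | h
  · haveI := (CfsgLib.Constrained.isPGroup_pCore (p := 2) (G := G)).isNilpotent
    exact key _ inferInstance h inferInstance
  · refine key _ inferInstance h (CfsgLib.OddSixteen.oddOrder_of_p1540Core CfsgLib.OddOrder.PF12.p1540Core ?_)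
    rw [← Nat.not_even_iff_odd, even_iff_two_dvd]
    exact CfsgLib.Constrained.pPrimeCore_not_dvd

end CfsgLib.PLengthTwoExp
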